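import Groth.Agent.L00.PullStalk
import Groth.Agent.L00.StalkFunctor
import Groth.Agent.L21.Mod.Locality
import Groth.Agent.L00.AlgQCoh
import Groth.Agent.L18.IdealModule
import Groth.Agent.L29.DCoh.QCohLocal
import Groth.Agent.L16.AffineBC.Pullback
import Groth.Agent.L16.QcqsPush
import Mathlib.AlgebraicGeometry.Morphisms.Flat
import Mathlib.RingTheory.Flat.FaithfullyFlat.Basic
import Mathlib.AlgebraicGeometry.Morphisms.Affine

/-!
An arbitrary module with quasi-coherent faithfully flat pullback is quasi-coherent.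
-/

set_option autoImplicit false
set_option linter.style.haveILetI false
set_option backward.isDefEq.respectTransparency false
set_option backward.isDefEq.respectTransparency.types false

universe u

open CategoryTheory CategoryTheory.Limits AlgebraicGeometry

noncomputable section

namespace Groth.L24.QCohDesc

variable {X Y : Scheme.{u}} (f : Y ⟶ X)

theorem mono_pullback [Flat f] {A B : X.Modules} (ι : A ⟶ B) [Mono ι] :
    Mono ((Scheme.Modules.pullback f).map ι) := by
  refine (Groth.L21.Mod.mono_iff_stalk_injective _).2 fun y => ?_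
  letI := (Groth.L00.PullStalk.φ f y).toAlgebra
  haveI : Module.Flat (X.presheaf.stalk (f y)) (Y.presheaf.stalk y) := AlgebraicGeometry.Flat.stalkMap f y
  haveI : Mono ((Groth.L00.Stk.F X (f y)).map ι) := inferInstance
  have hinj : Function.Injective ((Groth.L00.Stk.F X (f y)).map ι).hom := (ModuleCat.mono_iff_injective _).1 inferInstance
  haveI : Mono ((ModuleCat.extendScalars (Groth.L00.PullStalk.φ f y)).map ((Groth.L00.Stk.F X (f y)).map ι)) :=
    (ModuleCat.mono_iff_injective _).2 (Module.Flat.lTensor_preserves_injective_linearMap _ hinj)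
  have h : Mono ((Scheme.Modules.pullback f ⋙ Groth.L00.Stk.F Y y).map ι) := by
    rw [← NatIso.naturality_2 (Groth.L00.PullStalk.stalkIso f y) ι]
    haveI : Mono (((Groth.L00.Stk.F X (f y)) ⋙ ModuleCat.extendScalars (Groth.L00.PullStalk.φ f y)).map ι) := ‹_›
    infer_instance
  exact (ModuleCat.mono_iff_injective ((Scheme.Modules.pullback f ⋙ Groth.L00.Stk.F Y y).map ι)).1 h

theorem isZero_of_pullback [Flat f] [Surjective f] {A : X.Modules}
    (h : IsZero ((Scheme.Modules.pullback f).obj A)) : IsZero A := by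
  refine (Groth.L00.Stk.isZero_iff A).2 fun x => ?_
  obtain ⟨y, rfl⟩ := f.surjective x
  letI := (Groth.L00.PullStalk.φ f y).toAlgebra
  haveI : Module.Flat (X.presheaf.stalk (f y)) (Y.presheaf.stalk y) := AlgebraicGeometry.Flat.stalkMap f y
  haveI : IsLocalHom (algebraMap (X.presheaf.stalk (f y)) (Y.presheaf.stalk y)) :=
    inferInstanceAs (IsLocalHom (f.stalkMap y).hom)
  haveI : Module.FaithfullyFlat (X.presheaf.stalk (f y)) (Y.presheaf.stalk y) :=
    Module.FaithfullyFlat.of_flat_of_isLocalHom
  have h1 : IsZero ((ModuleCat.extendScalars (Groth.L00.PullStalk.φ f y)).obj ((Groth.L00.Stk.F X (f y)).obj A)) :=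
    ((Groth.L00.Stk.isZero_iff _).1 h y).of_iso ((Groth.L00.PullStalk.stalkIso f y).app A).symm
  have h2 : Subsingleton (TensorProduct (X.presheaf.stalk (f y)) (Y.presheaf.stalk y) ((Groth.L00.Stk.F X (f y)).obj A)) :=
    ModuleCat.subsingleton_of_isZero h1
  haveI : Subsingleton ((Groth.L00.Stk.F X (f y)).obj A) :=
    haveI := h2
    Module.FaithfullyFlat.lTensor_reflects_triviality (X.presheaf.stalk (f y)) (Y.presheaf.stalk y) _
  exact ModuleCat.isZero_of_subsingleton _

/-- A faithfully flat pullback reflects isomorphisms. -/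
theorem isIso_of_pullback [Flat f] [Surjective f] {A B : X.Modules} (l : A ⟶ B)
    (h : IsIso ((Scheme.Modules.pullback f).map l)) : IsIso l := by
  haveI := (Scheme.Modules.pullbackPushforwardAdjunction f).leftAdjoint_preservesColimits
  haveI := (Scheme.Modules.pullbackPushforwardAdjunction f).left_adjoint_additive
  haveI := mono_pullback f (kernel.ι l)
  have h0 : (Scheme.Modules.pullback f).map (kernel.ι l) = 0 := by
    rw [← cancel_mono ((Scheme.Modules.pullback f).map l), zero_comp, ← Functor.map_comp, kernel.condition,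
      Functor.map_zero]
  haveI : Mono l := Preadditive.mono_of_isZero_kernel _ (isZero_of_pullback f (IsZero.of_mono_eq_zero _ h0))
  have hz : IsZero (cokernel ((Scheme.Modules.pullback f).map l)) := isZero_cokernel_of_epi _
  haveI := Preadditive.epi_of_isZero_cokernel l
    (isZero_of_pullback f (hz.of_iso (PreservesCokernel.iso (Scheme.Modules.pullback f) l)))
  exact isIso_of_mono_of_epi l

/-- A module with quasi-coherent pullback along a faithfully flat qcqs morphism is quasi-coherent. -/
theorem isQCoh_of_pullback_qcqs [Flat f] [Surjective f] [QuasiCompact f] [QuasiSeparated f] (M : X.Modules)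
    (h : Coh.IsQCoh ((Scheme.Modules.pullback f).obj M)) : Coh.IsQCoh M := by
  let F := Scheme.Modules.pullback f
  let G := Scheme.Modules.pushforward f
  let adj := Scheme.Modules.pullbackPushforwardAdjunction f
  let P := G.obj (F.obj M)
  haveI := adj.leftAdjoint_preservesColimits
  haveI := adj.left_adjoint_additive
  haveI := adj.right_adjoint_additive
  let η : M ⟶ P := adj.unit.app M
  let η' : P ⟶ G.obj (F.obj P) := adj.unit.app P
  let φ : P ⟶ G.obj (F.obj P) := η' - G.map (F.map η)
  have hl0 : η ≫ φ = 0 := by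
    show η ≫ (η' - G.map (F.map η)) = 0
    rw [Preadditive.comp_sub, sub_eq_zero]
    exact adj.unit.naturality η
  let l : M ⟶ kernel φ := kernel.lift φ η hl0
  haveI := mono_pullback f (kernel.ι φ)
  have hl : l ≫ kernel.ι φ = η := kernel.lift_ι _ _ _
  have hk : kernel.ι φ ≫ η' = kernel.ι φ ≫ G.map (F.map η) := by
    rw [← sub_eq_zero, ← Preadditive.comp_sub]
    exact kernel.condition φ
  let εM : F.obj P ⟶ F.obj M := adj.counit.app (F.obj M)
  let εP : F.obj (G.obj (F.obj P)) ⟶ F.obj P := adj.counit.app (F.obj P)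
  have hnat : F.map (G.map (F.map η)) ≫ εP = εM ≫ F.map η := adj.counit.naturality (F.map η)
  have ht : F.map η' ≫ εP = 𝟙 (F.obj P) := adj.left_triangle_components P
  have hM : F.map η ≫ εM = 𝟙 (F.obj M) := adj.left_triangle_components M
  have hiso : IsIso (F.map l) := by
    refine ⟨F.map (kernel.ι φ) ≫ εM, ?_, ?_⟩
    · rw [← Category.assoc, ← F.map_comp, hl]
      exact hM
    · rw [← cancel_mono (F.map (kernel.ι φ)), Category.assoc, Category.assoc, ← F.map_comp, hl, Category.id_comp,
        ← hnat, ← F.map_comp_assoc, ← hk, F.map_comp_assoc, ht, Category.comp_id]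
  haveI := isIso_of_pullback f l hiso
  haveI := h
  haveI hP : Coh.IsQCoh P := Groth.L16.QcqsPush.isQCoh_push (F.obj M) f
  haveI : Coh.IsQCoh (F.obj P) := Groth.L16.AffineBC.isQCoh_pullback f P
  haveI : Coh.IsQCoh (G.obj (F.obj P)) := Groth.L16.QcqsPush.isQCoh_push (F.obj P) f
  exact Groth.L29.DC.isQCoh_of_iso' (asIso l).symm (Groth.L18.IdealModule.isQCoh_kernel φ)

/-- A module with quasi-coherent pullback along a faithfully flat quasi-compact morphism is quasi-coherent. -/
theorem isQCoh_of_pullback [Flat f] [Surjective f] [QuasiCompact f] (M : X.Modules)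
    (h : Coh.IsQCoh ((Scheme.Modules.pullback f).obj M)) : Coh.IsQCoh M := by
  refine Groth.L00.AlgQCoh.isQCoh_of_cover fun x => ?_
  obtain ⟨_, ⟨(V : X.Opens), (hV : IsAffineOpen V), rfl⟩, (hxV : x ∈ V), -⟩ :=
    X.isBasis_affineOpens.exists_subset_of_mem_open (Set.mem_univ x) isOpen_univ
  refine ⟨V, hxV, ?_⟩
  let W := f ⁻¹ᵁ V
  haveI : IsAffine (V : Scheme.{u}) := hV
  haveI : CompactSpace (W : Scheme.{u}) := isCompact_iff_compactSpace.mp (f.isCompact_preimage hV.isCompact)
  let 𝒰 := (W : Scheme.{u}).affineCover.finiteSubcover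
  haveI : Fintype 𝒰.I₀ := inferInstanceAs (Fintype ((W : Scheme.{u}).affineCover.finiteSubcover).I₀)
  haveI : ∀ i, IsAffine (𝒰.X i) := fun i => inferInstanceAs (IsAffine ((W : Scheme.{u}).affineCover.X _))
  let p : ∐ 𝒰.X ⟶ (W : Scheme.{u}) := Sigma.desc 𝒰.f
  haveI : Flat p := IsZariskiLocalAtSource.sigmaDesc fun i => inferInstance
  haveI : Surjective p := Surjective.sigmaDesc_of_union_range_eq_univ 𝒰.iUnion_range
  haveI : Surjective (f ∣_ V) := IsZariskiLocalAtTarget.restrict (P := @Surjective) inferInstance V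
  haveI : Flat (f ∣_ V) := IsZariskiLocalAtTarget.restrict (P := @Flat) inferInstance V
  haveI : IsAffine (∐ 𝒰.X) := inferInstance
  haveI : IsAffineHom (p ≫ f ∣_ V) := inferInstance
  refine isQCoh_of_pullback_qcqs (p ≫ f ∣_ V) _ ?_
  haveI := h
  haveI := Groth.L16.AffineBC.isQCoh_pullback (p ≫ W.ι) ((Scheme.Modules.pullback f).obj M)
  refine Groth.L29.DC.isQCoh_of_iso' ?_ (inferInstance :
    Coh.IsQCoh ((Scheme.Modules.pullback (p ≫ W.ι)).obj ((Scheme.Modules.pullback f).obj M)))
  exact (Scheme.Modules.pullbackComp (p ≫ W.ι) f).app M ≪≫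
    (Scheme.Modules.pullbackCongr (by rw [Category.assoc, Category.assoc, morphismRestrict_ι])).app M ≪≫
    ((Scheme.Modules.pullbackComp (p ≫ f ∣_ V) V.ι).app M).symm ≪≫
    (Scheme.Modules.pullback (p ≫ f ∣_ V)).mapIso ((Scheme.Modules.restrictFunctorIsoPullback V.ι).app M).symm

end Groth.L24.QCohDesc
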